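import Mathlib

/-!
Elementary facts on a conjugation closed set of involutions in which any two members commute or
have product of odd order.
-/

set_option autoImplicit false

namespace CfsgLib.OddTrans74

variable {G : Type*} [Group G]

/-- A normal set of involutions, any two commuting or with product of odd order. -/
structure OT (D : Set G) : Prop where
  mul_self : ∀ a ∈ D, a * a = 1
  ne_one : ∀ a ∈ D, a ≠ 1
  conj : ∀ a ∈ D, ∀ g : G, g * a * g⁻¹ ∈ D
  pair : ∀ a ∈ D, ∀ b ∈ D, Commute a b ∨ Odd (orderOf (a * b))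

/-- Two commuting members with product a member. -/
def Line (D : Set G) (u v : G) : Prop := u ∈ D ∧ v ∈ D ∧ Commute u v ∧ u * v ∈ D

theorem inv_eq {t : G} (ht : t * t = 1) : t⁻¹ = t := inv_eq_of_mul_eq_one_right ht

theorem eq_one_of_odd {g : G} (h : Odd (orderOf g)) (h2 : g * g = 1) : g = 1 := by
  obtain ⟨k, hk⟩ := h
  have h1 := pow_orderOf_eq_one g
  rw [hk, pow_succ, pow_mul, pow_two, h2, one_pow, one_mul] at h1
  exact h1

theorem commute_of_sq {g q : G} (h : Odd (orderOf g)) (hq : Commute q (g * g)) : Commute q g := by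
  obtain ⟨k, hk⟩ := h
  have h1 : (g * g) ^ (k + 1) = g := by
    rw [← pow_two, ← pow_mul, show 2 * (k + 1) = orderOf g + 1 by omega, pow_succ,
      pow_orderOf_eq_one, one_mul]
  rw [← h1]
  exact hq.pow_right _

theorem not_odd_mul {c g : G} (hc : c * c = 1) (hc1 : c ≠ 1) (hcg : Commute c g)
    (hg : Odd (orderOf g)) : ¬ Odd (orderOf (c * g)) := fun hodd => by
  have hn : Odd (orderOf (c * g) * orderOf g) := hodd.mul hg
  obtain ⟨k, hk⟩ := hn
  have h1 : (c * g) ^ (2 * k + 1) = 1 := by
    rw [← hk, pow_mul, pow_orderOf_eq_one, one_pow]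
  have h2 : g ^ (2 * k + 1) = 1 := by
    rw [← hk, pow_mul', pow_orderOf_eq_one, one_pow]
  rw [hcg.mul_pow, h2, mul_one, pow_succ, pow_mul, pow_two, hc, one_pow, one_mul] at h1
  exact hc1 h1

theorem conjC {t a b : G} (ht : t * t = 1) (h : Commute a b) :
    Commute (t * a * t) (t * b * t) := by
  unfold Commute SemiconjBy
  rw [show t * a * t * (t * b * t) = t * (a * (t * t) * b) * t by group,
    show t * b * t * (t * a * t) = t * (b * (t * t) * a) * t by group, ht, mul_one, mul_one, h.eq]

theorem cj_cj {t : G} (ht : t * t = 1) (a : G) : t * (t * a * t) * t = a := by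
  rw [show t * (t * a * t) * t = t * t * a * (t * t) by group, ht, one_mul, mul_one]

theorem cj_fix {t a : G} (ht : t * t = 1) (h : Commute t a) : t * a * t = a := by
  rw [h.eq, mul_assoc, ht, mul_one]

theorem cj_ne {t a : G} (ht : t * t = 1) (h : ¬ Commute a t) : t * a * t ≠ a := fun e => h <| by
  show a * t = t * a
  calc a * t = t * a * t * t := by rw [e]
    _ = t * a := by rw [mul_assoc, ht, mul_one]

variable {D : Set G}

theorem OT.inv_eq (h : OT D) {a : G} (ha : a ∈ D) : a⁻¹ = a :=
  CfsgLib.OddTrans74.inv_eq (h.mul_self a ha)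

theorem OT.cj_mem (h : OT D) {t a : G} (ht : t * t = 1) (ha : a ∈ D) : t * a * t ∈ D := by
  have := h.conj a ha t
  rwa [CfsgLib.OddTrans74.inv_eq ht] at this

theorem OT.odd_of_not (h : OT D) {a b : G} (ha : a ∈ D) (hb : b ∈ D) (hab : ¬ Commute a b) :
    Odd (orderOf (a * b)) := (h.pair a ha b hb).resolve_left hab

/-- A member does not commute with its conjugate under a member it does not commute with. -/
theorem OT.not_comm_cj (h : OT D) {p q : G} (hp : p ∈ D) (hq : q ∈ D) (hpq : ¬ Commute p q) :
    ¬ Commute p (q * p * q) := fun hc => by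
  have hp2 := h.mul_self p hp
  have hq2 := h.mul_self q hq
  have hodd := h.odd_of_not hp hq hpq
  have e : p * q * (p * q) = p * (q * p * q) := by group
  have hqq : q * p * q * (q * p * q) = 1 := by
    rw [show q * p * q * (q * p * q) = q * p * (q * q) * p * q by group, hq2, mul_one,
      show q * p * p * q = q * (p * p) * q by group, hp2, mul_one, hq2]
  have h2 : p * q * (p * q) * (p * q * (p * q)) = 1 := by
    rw [e, show p * (q * p * q) * (p * (q * p * q)) = p * ((q * p * q) * p) * (q * p * q) by group,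
      ← hc.eq, show p * (p * (q * p * q)) * (q * p * q) = p * p * (q * p * q * (q * p * q)) by group,
      hp2, hqq, one_mul]
  have h3 : p * q * (p * q) = 1 :=
    eq_one_of_odd (hodd.of_dvd_nat (by rw [← pow_two]; exact orderOf_pow_dvd 2)) h2
  have h5 := eq_one_of_odd hodd h3
  have h6 : q = p := by
    calc q = p * p * q := by rw [hp2, one_mul]
      _ = p := by rw [mul_assoc, h5, mul_one]
  exact hpq (h6 ▸ Commute.refl p)

/-- A member commuting with the product of two commuting members commutes with both. -/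
theorem OT.f1 (h : OT D) {u v z : G} (hu : u ∈ D) (hv : v ∈ D) (hz : z ∈ D) (huv : Commute u v)
    (hne : u ≠ v) (hzuv : Commute z (u * v)) : Commute z u ∧ Commute z v := by
  have hu2 := h.mul_self u hu
  have hv2 := h.mul_self v hv
  have hc2 : u * v * (u * v) = 1 := by
    rw [show u * v * (u * v) = u * (v * u) * v by group, ← huv.eq,
      show u * (u * v) * v = u * u * (v * v) by group, hu2, hv2, one_mul]
  have hc1 : u * v ≠ 1 := fun e => hne <| by
    calc u = u * v * v := by rw [mul_assoc, hv2, mul_one]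
      _ = v := by rw [e, one_mul]
  have huc : Commute (u * v) u := (Commute.refl u).mul_left huv.symm
  have hzu : Commute z u := by
    by_contra hzu
    rcases h.pair z hz v hv with hzv | hzv
    · refine hzu ?_
      have := hzuv.mul_right hzv
      rwa [mul_assoc, hv2, mul_one] at this
    · refine not_odd_mul hc2 hc1 (hzuv.symm.mul_right huc) (h.odd_of_not hz hu hzu) ?_
      rwa [show u * v * (z * u) = z * v by
        rw [← mul_assoc, hzuv.symm.eq, mul_assoc z, huc.eq, ← mul_assoc u u v, hu2, one_mul]]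
  refine ⟨hzu, ?_⟩
  have := hzu.mul_right hzuv
  rwa [← mul_assoc, hu2, one_mul] at this

theorem Line.symm {u v : G} (hl : Line D u v) : Line D v u :=
  ⟨hl.2.1, hl.1, hl.2.2.1.symm, hl.2.2.1.eq ▸ hl.2.2.2⟩

/-- The line `u, v` also is the line `u * v, v`. -/
theorem Line.shift (h : OT D) {u v : G} (hl : Line D u v) : Line D (u * v) v :=
  ⟨hl.2.2.2, hl.2.1, hl.2.2.1.mul_left (Commute.refl v), by
    rw [mul_assoc, h.mul_self v hl.2.1, mul_one]; exact hl.1⟩

/-- The members of a line commute with the same members. -/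
theorem OT.line_iff (h : OT D) {u v z : G} (hl : Line D u v) (hz : z ∈ D) :
    Commute z u ↔ Commute z v := by
  have key : ∀ {u v : G}, Line D u v → Commute z u → Commute z v := by
    intro u v hl hzu
    by_contra hzv
    rcases h.pair z hz (u * v) hl.2.2.2 with hc | hc
    · refine hzv ?_
      have := hzu.mul_right hc
      rwa [← mul_assoc, h.mul_self u hl.1, one_mul] at this
    · refine not_odd_mul (h.mul_self u hl.1) (h.ne_one u hl.1) (hzu.symm.mul_right hl.2.2.1)
        (h.odd_of_not hz hl.2.1 hzv) ?_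
      rwa [← mul_assoc, hzu.symm.eq, mul_assoc]
  exact ⟨key hl, key hl.symm⟩

/-- The dihedral lemma: for a member `d` and an involution `u` such that `d * (u * d * u)` has odd
order there are a member `w` and `v` with `w = u * v`, both commuting with `u`, and `v` centralised
by everything centralising `d` and `u`, in particular by `d`. -/
theorem OT.dihedral (h : OT D) {d u : G} (hd : d ∈ D) (hu : u * u = 1)
    (ho : Odd (orderOf (d * (u * d * u)))) :
    ∃ v w : G, w ∈ D ∧ v * v = 1 ∧ u * v = w ∧ Commute v d ∧ Commute v u ∧ Commute w u ∧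
      ∀ y : G, Commute y d → Commute y u → Commute y v := by
  have hd2 := h.mul_self d hd
  obtain ⟨i, hi⟩ := ho
  have hsq : (d * u) ^ 2 = d * (u * d * u) := by rw [pow_two]; group
  have hdu : (d * u)⁻¹ = u * d := by rw [mul_inv_rev, CfsgLib.OddTrans74.inv_eq hu, CfsgLib.OddTrans74.inv_eq hd2]
  have hinv : ∀ n : ℕ, d * (d * u) ^ n * d⁻¹ = ((d * u) ^ n)⁻¹ := fun n => by
    rw [← conj_pow, ← inv_pow, hdu]
    congr 1
    rw [CfsgLib.OddTrans74.inv_eq hd2, ← mul_assoc d d u, hd2, one_mul]
  set v := (d * u) ^ (2 * i + 1) with hv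
  have hv2 : v * v = 1 := by
    rw [hv, ← pow_add, show (2 * i + 1) + (2 * i + 1) = 2 * (2 * i + 1) by omega, pow_mul, hsq,
      ← hi, pow_orderOf_eq_one]
  have hvd : Commute v d := by
    have := hinv (2 * i + 1)
    rw [← hv, CfsgLib.OddTrans74.inv_eq hv2, mul_inv_eq_iff_eq_mul] at this
    exact this.symm
  have hvdu : Commute v (d * u) := (Commute.refl (d * u)).pow_left _
  have hvu : Commute v u := by
    have := hvd.mul_right hvdu
    rwa [← mul_assoc, hd2, one_mul] at this
  have hw : u * v = (d * u) ^ i * d * ((d * u) ^ i)⁻¹ := by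
    have hud : v * u = (d * u) ^ (2 * i) * d := by
      rw [hv, pow_succ, mul_assoc ((d * u) ^ (2 * i)), mul_assoc d u u, hu, mul_one]
    rw [← hvu.eq, hud, mul_assoc ((d * u) ^ i), show d * ((d * u) ^ i)⁻¹ = (d * u) ^ i * d by
        rw [← hinv i, CfsgLib.OddTrans74.inv_eq hd2]
        rw [show d * (d * (d * u) ^ i * d) = d * d * ((d * u) ^ i * d) by group, hd2, one_mul],
      ← mul_assoc, ← pow_add, ← two_mul]
  refine ⟨v, u * v, hw ▸ h.conj d hd _, hv2, rfl, hvd, hvu, ?_, fun y hyd hyu =>
    (hyd.mul_right hyu).pow_right _⟩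
  exact (Commute.refl u).mul_left hvu

end CfsgLib.OddTrans74
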