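import Cfsg.Agent.Lib.OddTrans74.Diameter
import Cfsg.Agent.Lib.Involutions.Basic

/-!
An involution `v` centralising all neighbours of a member `a` and a member `z` not commuting with
`a`, in a connected class with lines, has every member commuting with its image under `v`.
-/

set_option autoImplicit false

set_option linter.unusedSectionVars false

namespace CfsgLib.OddTrans74

universe u

variable {G : Type u} [Group G] {D : Set G}

/-- The members commuting with `v` that are conjugate to `a` under the centralizer of `v`. -/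
def SSet (D : Set G) (a v : G) : Set G :=
  {s | s ∈ D ∧ ∃ h : G, Commute h v ∧ s = h * a * h⁻¹}

/-- The other members commuting with `v`. -/
def TSet (D : Set G) (a v : G) : Set G := {e | e ∈ D ∧ Commute e v ∧ e ∉ SSet D a v}

/-- An odd transposition class with lines. -/
structure Cls (D : Set G) : Prop where
  ot : OT D
  lines : ∀ y ∈ D, ∃ y', Line D y y'
  cls : ∀ p ∈ D, ∀ q ∈ D, ∃ g : G, q = g * p * g⁻¹

/-- `v` centralises the neighbours of `a` and the member `z`. -/
structure Cen (D : Set G) (a z v : G) : Prop where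
  ma : a ∈ D
  mz : z ∈ D
  naz : ¬ Commute a z
  hv2 : v * v = 1
  cnb : ∀ b ∈ D, Commute b a → Commute b v
  czv : Commute z v

theorem commute_conj_iff (g x y : G) :
    Commute (g * x * g⁻¹) (g * y * g⁻¹) ↔ Commute x y :=
  ⟨fun h => (MulAut.conj g).injective (by rw [map_mul, map_mul]; exact h.eq),
    fun h => h.map (MulAut.conj g).toMonoidHom⟩

theorem cj_conj_eq {h v : G} (hh : Commute h v) : h * v * h⁻¹ = v := by
  rw [hh.eq, mul_inv_cancel_right]

/-- Two members of a class with the neighbours of one among those of the other have equal sets. -/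
theorem Cls.twin_of_subset [Finite G] (hC : Cls D) {a b : G} (ha : a ∈ D) (hb : b ∈ D)
    (hsub : ∀ z ∈ D, Commute z a → Commute z b) : ∀ z ∈ D, Commute z b → Commute z a := by
  obtain ⟨g, hg⟩ := hC.cls a ha b hb
  set A : Set G := {z | z ∈ D ∧ Commute z a} with hA
  set B : Set G := {z | z ∈ D ∧ Commute z b} with hB
  have hBA : B = (fun z => g * z * g⁻¹) '' A := by
    ext z
    constructor
    · rintro ⟨hz, hzb⟩
      refine ⟨g⁻¹ * z * g, ⟨?_, ?_⟩, by group⟩
      · simpa using hC.ot.conj z hz g⁻¹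
      · have := (commute_conj_iff g⁻¹ z b).2 hzb
        rw [hg] at this
        simpa [mul_assoc] using this
    · rintro ⟨y, ⟨hy, hya⟩, rfl⟩
      exact ⟨hC.ot.conj y hy g, hg ▸ (commute_conj_iff g y a).2 hya⟩
  have hcard : B.ncard ≤ A.ncard := by
    rw [hBA]; exact Set.ncard_image_le (Set.toFinite _)
  have heq : A = B := Set.eq_of_subset_of_ncard_le (fun z hz => ⟨hz.1, hsub z hz.1 hz.2⟩) hcard
  intro z hz hzb
  have hm : z ∈ B := ⟨hz, hzb⟩
  rw [← heq] at hm
  exact hm.2

namespace Cen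

variable {a z v : G} (hC : Cls D) (c : Cen D a z v)
include hC c

theorem a_mem_S : a ∈ SSet D a v :=
  ⟨c.ma, 1, Commute.one_left v, by simp⟩

theorem S_comm {s : G} (hs : s ∈ SSet D a v) : Commute s v := by
  obtain ⟨-, h, hh, rfl⟩ := hs
  have := (commute_conj_iff h a v).2 (c.cnb a c.ma (Commute.refl a))
  rwa [cj_conj_eq hh] at this

theorem S_nb {s b : G} (hs : s ∈ SSet D a v) (hb : b ∈ D) (hbs : Commute b s) : Commute b v := by
  obtain ⟨-, h, hh, rfl⟩ := hs
  have h1 : Commute (h⁻¹ * b * h⁻¹⁻¹) a := by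
    have := (commute_conj_iff h⁻¹ b _).2 hbs
    simpa [mul_assoc] using this
  have h2 := (commute_conj_iff h _ v).2 (c.cnb _ (hC.ot.conj b hb h⁻¹) h1)
  rw [cj_conj_eq hh] at h2
  simpa [mul_assoc] using h2

theorem S_of_opp {s y : G} (hs : s ∈ SSet D a v) (hy : y ∈ D) (hyv : Commute y v)
    (hys : ¬ Commute s y) : y ∈ SSet D a v := by
  have hsv := c.S_comm hC hs
  have o2 : ∀ {m : G}, m ∈ D → orderOf m = 2 := fun hm =>
    orderOf_eq_prime (by rw [pow_two]; exact hC.ot.mul_self _ hm) (hC.ot.ne_one _ hm)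
  obtain ⟨d, hd, hdy⟩ := CfsgLib.Involutions.conj_of_odd_order (o2 hs.1) (o2 hy)
    (hC.ot.odd_of_not hs.1 hy hys)
  have hdv : Commute d v := by
    have hle : Subgroup.closure ({s, y} : Set G) ≤ Subgroup.centralizer ({v} : Set G) := by
      rw [Subgroup.closure_le]
      rintro m (rfl | rfl)
      · exact Subgroup.mem_centralizer_singleton_iff.2 hsv.eq
      · exact Subgroup.mem_centralizer_singleton_iff.2 hyv.eq
    exact Subgroup.mem_centralizer_singleton_iff.1 (hle hd)
  obtain ⟨-, h, hh, rfl⟩ := hs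
  exact ⟨hy, d * h, hdv.mul_left hh, by rw [← hdy]; group⟩

theorem z_mem_S : z ∈ SSet D a v :=
  c.S_of_opp hC (c.a_mem_S hC) c.mz c.czv c.naz

theorem T_perp {e s : G} (he : e ∈ TSet D a v) (hs : s ∈ SSet D a v) : Commute e s := by
  by_contra h
  exact he.2.2 (c.S_of_opp hC hs he.1 he.2.1 fun e' => h e'.symm)

theorem exists_opp {s : G} (hs : s ∈ SSet D a v) : ∃ r ∈ SSet D a v, ¬ Commute r s := by
  obtain ⟨-, h, hh, rfl⟩ := hs
  obtain ⟨hz, k, hk, hk'⟩ := c.z_mem_S hC
  refine ⟨h * z * h⁻¹, ⟨hC.ot.conj z hz h, h * k, hh.mul_left hk, ?_⟩,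
    fun e => c.naz ((commute_conj_iff h z a).1 e).symm⟩
  rw [hk']; group

/-- A member with the same neighbours as a member of `SSet` lies in it. -/
theorem twin_mem_S {s t : G} (hs : s ∈ SSet D a v) (ht : t ∈ D)
    (hts : ∀ m ∈ D, (Commute m t ↔ Commute m s)) : t ∈ SSet D a v := by
  obtain ⟨r, hr, hrs⟩ := c.exists_opp hC hs
  exact c.S_of_opp hC hr ht (c.S_nb hC hs ht ((hts t ht).1 (Commute.refl t)))
    fun e => hrs ((hts r hr.1).1 e)

/-- The auxiliary element `g = t y w₄` centralising `p` and `v`. -/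
theorem exists_aux {p s y : G} (hp : p ∈ D) (hpv : ¬ Commute p v) (hs : s ∈ SSet D a v)
    (hy : y ∈ D) (hys : Commute y s) (hyp : ¬ Commute y p) :
    ∃ t w4, t ∈ SSet D a v ∧ (∀ m ∈ D, (Commute m t ↔ Commute m s)) ∧ w4 ∈ D ∧ Commute w4 t ∧
      Commute w4 y ∧ Commute t y ∧ w4 ≠ y ∧ w4 ≠ t ∧ Commute (t * y * w4) p ∧
      Commute (t * y * w4) v := by
  have hps : ¬ Commute p s := fun e => hpv (c.S_nb hC hs hp e)
  obtain ⟨s', hl⟩ := hC.lines s hs.1
  obtain ⟨t, htD, hts, hb⟩ : ∃ t, t ∈ D ∧ (∀ m ∈ D, (Commute m t ↔ Commute m s)) ∧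
      ¬ Commute p (t * y * p * (t * y)) := by
    by_cases hA : Commute p (s * y * p * (s * y))
    · have hl2 := hl.shift hC.ot
      refine ⟨s * s', hl2.1, fun m hm => (hC.ot.line_iff hl2 hm).trans
        (hC.ot.line_iff hl hm).symm, ?_⟩
      have hs'y : Commute s' y := ((hC.ot.line_iff hl hy).1 hys).symm
      rw [show s * s' * y = s' * (s * y) by rw [hl.2.2.1.eq, mul_assoc]]
      exact Quad.main_line hC.ot hp (mul_self_of_commute (hC.ot.mul_self s hs.1)
        (hC.ot.mul_self y hy) hys.symm) hl.2.1 (hl.2.2.1.mul_left hs'y.symm)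
        (fun e => hps ((hC.ot.line_iff hl hp).2 e)) hA
    · exact ⟨s, hs.1, fun m _ => Iff.rfl, hA⟩
  have hty : Commute t y := ((hts y hy).2 hys).symm
  have hu2 : t * y * (t * y) = 1 :=
    mul_self_of_commute (hC.ot.mul_self t htD) (hC.ot.mul_self y hy) hty
  have hne : t ≠ y := fun e => hb (by
    rw [e, hC.ot.mul_self y hy, one_mul, mul_one])
  obtain ⟨v4, w4, hw4, -, huv4, hv4p, -, hw4u, -⟩ :=
    hC.ot.dihedral hp hu2 (hC.ot.odd_of_not hp (hC.ot.cj_mem hu2 hp) hb)
  obtain ⟨hw4t, hw4y⟩ := hC.ot.f1 htD hy hw4 hty hne hw4u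
  have hv4 : v4 = t * y * w4 := by rw [← huv4, ← mul_assoc, hu2, one_mul]
  have htS := c.twin_mem_S hC hs htD hts
  refine ⟨t, w4, htS, hts, hw4, hw4t, hw4y, hty, fun e => hps ?_, fun e => hyp ?_,
    hv4 ▸ hv4p, ?_⟩
  · rw [hv4, e, mul_assoc, hC.ot.mul_self y hy, mul_one] at hv4p
    exact (hts p hp).1 hv4p.symm
  · rw [hv4, e, hty.eq, mul_assoc, hC.ot.mul_self t htD, mul_one] at hv4p
    exact hv4p
  · exact ((c.S_comm hC htS).mul_left (c.S_nb hC hs hy hys)).mul_left
      (c.S_nb hC hs hw4 ((hts w4 hw4).1 hw4t))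

/-- A member `p` with `p^v` not commuting with it: `v` times a member of `SSet` centralises `p`,
and `p` commutes with all of `TSet`. -/
theorem of_not_comm [Finite G] {p : G} (hp : p ∈ D) (hb : ¬ Commute p (v * p * v)) :
    (∃ w5 ∈ SSet D a v, Commute w5 v ∧ Commute p (v * w5)) ∧
      ∀ e ∈ TSet D a v, Commute e p := by
  have hpv : ¬ Commute p v := fun e => hb (by rw [cj_fix c.hv2 e.symm])
  obtain ⟨v5, w5, hw5, -, huv5, hv5p, -, hw5v, hcan⟩ :=
    hC.ot.dihedral hp c.hv2 (hC.ot.odd_of_not hp (hC.ot.cj_mem c.hv2 hp) hb)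
  have hcomm : ∀ y : G, Commute y p → Commute y v → Commute y w5 := fun y h1 h2 =>
    huv5 ▸ h2.mul_right (hcan y h1 h2)
  have hpw : Commute p (v * w5) := by
    rw [← huv5, ← mul_assoc, c.hv2, one_mul]; exact hv5p.symm
  have hw5S : w5 ∈ SSet D a v := by
    by_contra hnS
    have hT : w5 ∈ TSet D a v := ⟨hw5, hw5v, hnS⟩
    have hall : ∀ y ∈ D, Commute y v → Commute w5 y := by
      intro y hy hyv
      by_cases hyS : y ∈ SSet D a v
      · exact c.T_perp hC hT hyS
      have hyT : y ∈ TSet D a v := ⟨hy, hyv, hyS⟩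
      by_cases hyp : Commute y p
      · exact (hcomm y hyp hyv).symm
      have hya := c.T_perp hC hyT (c.a_mem_S hC)
      obtain ⟨t, w4, htS, -, hw4, -, hw4y, -, hwy, -, hgp, hgv⟩ :=
        c.exists_aux hC hp hpv (c.a_mem_S hC) hy hya hyp
      have h2 : Commute w5 (y * w4) := by
        have := (c.T_perp hC hT htS).mul_right (hcomm _ hgp hgv).symm
        rwa [mul_assoc t y w4, ← mul_assoc t t, hC.ot.mul_self t htS.1, one_mul] at this
      exact (hC.ot.f1 hy hw4 hw5 hw4y.symm (Ne.symm hwy) h2).1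
    have hsub : ∀ m ∈ D, Commute m a → Commute m w5 := fun m hm hma =>
      (hall m hm (c.cnb m hm hma)).symm
    exact c.naz (hC.twin_of_subset c.ma hw5 hsub z c.mz (hall z c.mz c.czv).symm).symm
  refine ⟨⟨w5, hw5S, hw5v, hpw⟩, fun y hy => ?_⟩
  by_contra hyp
  obtain ⟨s, hs, hsw⟩ := c.exists_opp hC hw5S
  obtain ⟨t, w4, htS, hts, hw4, hw4t, hw4y, hty, -, hwt, hgp, hgv⟩ :=
    c.exists_aux hC hp hpv hs hy.1 (c.T_perp hC hy hs) hyp
  have h2 : Commute w5 (t * w4) := by
    have := (c.T_perp hC hy hw5S).symm.mul_right (hcomm _ hgp hgv).symm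
    rwa [show y * (t * y * w4) = y * t * y * w4 by group, hty.symm.eq, mul_assoc t y y,
      hC.ot.mul_self y hy.1, mul_one] at this
  exact hsw ((hts w5 hw5).1 (hC.ot.f1 htS.1 hw4 hw5 hw4t.symm (Ne.symm hwt) h2).1).symm

/-- Every member commutes with its image under `v`. -/
theorem commute_all [Finite G] (hgen : Subgroup.closure D = ⊤)
    (hcon : ∀ p ∈ D, ∀ q ∈ D,
      Relation.ReflTransGen (fun p q => p ∈ D ∧ q ∈ D ∧ Commute p q) p q)
    {p : G} (hp : p ∈ D) (hb : ¬ Commute p (v * p * v)) : False := by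
  have hpv : ¬ Commute p v := fun e => hb (by rw [cj_fix c.hv2 e.symm])
  obtain ⟨⟨w5, hw5S, hw5v, hpw⟩, -⟩ := c.of_not_comm hC hp hb
  -- `TSet` is not empty
  by_cases hTe : TSet D a v = ∅
  · refine hpv ?_
    have key : ∀ m, Relation.ReflTransGen (fun p q => p ∈ D ∧ q ∈ D ∧ Commute p q) a m →
        m ∈ SSet D a v := by
      intro m hm
      induction hm with
      | refl => exact c.a_mem_S hC
      | @tail y m _ hym ih =>
        by_contra hmS
        have : m ∈ TSet D a v := ⟨hym.2.1, c.S_nb hC ih hym.2.1 hym.2.2.symm, hmS⟩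
        rw [hTe] at this
        exact this
    exact c.S_comm hC (key p (hcon a c.ma p hp))
  obtain ⟨e₀, he₀⟩ := Set.nonempty_iff_ne_empty.2 hTe
  -- the configuration `w5, p, v * w5`
  have hw5p : ¬ Commute w5 p := fun e => hpv (c.S_nb hC hw5S hp e.symm)
  have hw2 := hC.ot.mul_self w5 hw5S.1
  set v5 := v * w5 with hv5
  have hv52 : v5 * v5 = 1 := mul_self_of_commute c.hv2 hw2 hw5v.symm
  have c5 : Cen D w5 p v5 :=
    ⟨hw5S.1, hp, hw5p, hv52, fun b hb hbw => (c.S_nb hC hw5S hb hbw).mul_right hbw, hpw⟩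
  have hTT : ∀ e ∈ TSet D a v, e ∈ TSet D w5 v5 := by
    intro e he
    have hew := c.T_perp hC he hw5S
    refine ⟨he.1, he.2.1.mul_right hew, fun heS => ?_⟩
    obtain ⟨s, hs, hsw⟩ := c.exists_opp hC hw5S
    have h1 : Commute s v5 := c5.S_nb hC heS hs.1 (c.T_perp hC he hs).symm
    refine hsw ?_
    have := (c.S_comm hC hs).mul_right h1
    rwa [hv5, ← mul_assoc, c.hv2, one_mul] at this
  -- members not commuting with all of `TSet` commute with `v`
  have hkey : ∀ q ∈ D, (∃ e ∈ TSet D a v, ¬ Commute e q) → Commute q v := by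
    intro q hq he
    by_contra hqv
    have one : ∀ r ∈ D, (∃ e ∈ TSet D a v, ¬ Commute e r) → Commute r w5 := by
      rintro r hr ⟨e, he, her⟩
      by_contra hrw
      refine Quad.main_line hC.ot hr c.hv2 hw5S.1 hw5v.symm hrw ?_ ?_
      · by_contra hA
        exact her ((c.of_not_comm hC hr hA).2 e he)
      · rw [hw5v.eq]
        by_contra hA
        exact her ((c5.of_not_comm hC hr hA).2 e (hTT e he))
    obtain ⟨-, h, hh, hw⟩ := id hw5S
    have ha' : Commute (h * q * h⁻¹) w5 := by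
      refine one _ (hC.ot.conj q hq h) ?_
      obtain ⟨e, he, heq⟩ := he
      refine ⟨h * e * h⁻¹, ⟨hC.ot.conj e he.1 h, ?_, ?_⟩,
        fun x => heq ((commute_conj_iff h e q).1 x)⟩
      · have := (commute_conj_iff h e v).2 he.2.1
        rwa [cj_conj_eq hh] at this
      · rintro ⟨-, k, hk, hk'⟩
        refine he.2.2 ⟨he.1, h⁻¹ * k, hh.inv_left.mul_left hk, ?_⟩
        have : e = h⁻¹ * (h * e * h⁻¹) * h := by group
        rw [this, hk']; group
    rw [hw] at ha'
    exact hqv (c.cnb q hq ((commute_conj_iff h q a).1 ha'))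
  -- `TSet` is invariant under every member
  have hinv : ∀ q ∈ D, ∀ e ∈ TSet D a v, q * e * q⁻¹ ∈ TSet D a v := by
    intro q hq e he
    by_cases hqe : Commute e q
    · rwa [← hqe.eq, mul_inv_cancel_right]
    have hqv := hkey q hq ⟨e, he, hqe⟩
    refine ⟨hC.ot.conj e he.1 q, ?_, ?_⟩
    · have := (commute_conj_iff q e v).2 he.2.1
      rwa [cj_conj_eq hqv] at this
    · rintro ⟨-, k, hk, hk'⟩
      refine he.2.2 ⟨he.1, q⁻¹ * k, hqv.inv_left.mul_left hk, ?_⟩
      have : e = q⁻¹ * (q * e * q⁻¹) * q := by group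
      rw [this, hk']; group
  have hall : ∀ g : G, ∀ e ∈ TSet D a v, g * e * g⁻¹ ∈ TSet D a v := by
    intro g
    have hg : g ∈ Subgroup.closure D := hgen ▸ Subgroup.mem_top g
    induction hg using Subgroup.closure_induction'' with
    | mem x hx => exact hinv x hx
    | inv_mem x hx => rw [hC.ot.inv_eq hx]; exact hinv x hx
    | one => intro e he; simpa using he
    | mul x y _ _ ihx ihy =>
      intro e he
      rw [show x * y * e * (x * y)⁻¹ = x * (y * e * y⁻¹) * x⁻¹ by group]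
      exact ihx _ (ihy e he)
  obtain ⟨g, hg⟩ := hC.cls e₀ he₀.1 a c.ma
  exact (hg ▸ hall g e₀ he₀ : a ∈ TSet D a v).2.2 (c.a_mem_S hC)

end Cen

end CfsgLib.OddTrans74
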