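import Cfsg.Agent.Lib.OddTrans74.Quad

/-!
In an odd transposition set a path `d, a, f, x` whose middle members lie on lines yields a member
commuting with `d`, `f` and `x`; hence a connected class containing a line has diameter at most two.
-/

set_option autoImplicit false

namespace CfsgLib.OddTrans74

universe u

namespace Quad

variable {G : Type u} [Group G] {D : Set G} {d a a' f g x v w v2 w2 : G}

/-- The commutator of the two involutions. -/
theorem prod_expr (h : OT D) (q : Quad D d a a' f g x) (t : Tri D d x f v w)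
    (t2 : Tri D x d a v2 w2) (hl : ∀ z ∈ D, (Commute z a ↔ Commute z (v * a * v))) :
    v2 * (v * v2 * v) = a * (v * a * v) * (w2 * (v * w2 * v)) ∧
      Commute w2 (a * (v * a * v)) ∧ Commute (v * w2 * v) (a * (v * a * v)) := by
  have hv2 := t.hv2
  have h2a : Commute w2 (v * a * v) := (hl w2 t2.mw).1 t2.cwf
  have h'a : Commute (v * w2 * v) a := by
    have := conjC hv2 h2a
    rwa [cj_cj hv2] at this
  have h'a1 : Commute (v * w2 * v) (v * a * v) := conjC hv2 t2.cwf
  refine ⟨?_, t2.cwf.mul_right h2a, h'a.mul_right h'a1⟩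
  have e1 : v2 = d * a * w2 := v_eq h q.md q.ma q.cda.symm t2
  have e2 : v * v2 * v = d * (v * a * v) * (v * w2 * v) := by
    rw [e1, show v * (d * a * w2) * v = v * d * (a * w2) * v by group, t.cvd.eq,
      show d * (v * a * v) * (v * w2 * v) = d * (v * (a * (v * v) * w2) * v) by group, hv2, mul_one]
    group
  have hd1 : Commute (v * a * v) d := cj_fix hv2 t.cvd ▸ conjC hv2 q.cda.symm
  have hc : Commute (a * w2) d := q.cda.symm.mul_left t2.cwx
  rw [e2, e1, show d * a * w2 * (d * (v * a * v) * (v * w2 * v)) =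
      d * ((a * w2) * d) * (v * a * v) * (v * w2 * v) by group, hc.eq,
    show d * (d * (a * w2)) * (v * a * v) * (v * w2 * v) =
      d * d * (a * (w2 * (v * a * v)) * (v * w2 * v)) by group, h.mul_self d q.md, one_mul, h2a.eq]
  group

/-- Both ends degenerate. -/
theorem both (h : OT D) (q : Quad D d a a' f g x) (t : Tri D d x f v w) (t2 : Tri D x d a v2 w2)
    (hn : ∀ e ∈ D, Commute e x → Commute e a → ¬ Commute e d)
    (hl : ∀ z ∈ D, (Commute z a ↔ Commute z (v * a * v)))
    (hl2 : ∀ z ∈ D, (Commute z f ↔ Commute z (v2 * f * v2))) :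
    ∃ s, s * s = 1 ∧ s ≠ 1 ∧ Six d a a' f g x s := by
  obtain ⟨he, hw2c, hw2c'⟩ := q.prod_expr h t t2 hl
  obtain ⟨he', hwc, hwc'⟩ := (q.symm hn).prod_expr h t2 t hl2
  set a1 := v * a * v with ha1
  set f2 := v2 * f * v2 with hf2
  set w2' := v * w2 * v with hw2'
  set w' := v2 * w * v2 with hw'
  set s := v2 * (v * v2 * v) with hs
  have ma1 : a1 ∈ D := h.cj_mem t.hv2 q.ma
  have mf2 : f2 ∈ D := h.cj_mem t2.hv2 q.mf
  have mw2' : w2' ∈ D := h.cj_mem t.hv2 t2.mw
  obtain ⟨haa1, ha1a⟩ := q.comm_conj h t q.ma q.cda.symm q.caf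
  have hsd : Commute s d := t2.cvx.mul_left ((t.cvd.mul_left t2.cvx).mul_left t.cvd)
  have hsx : Commute s x := t2.cvd.mul_left ((t.cvx.mul_left t2.cvd).mul_left t.cvx)
  have hc2 : a * a1 * (a * a1) = 1 :=
    mul_self_of_commute (h.mul_self a q.ma) (h.mul_self a1 ma1) haa1
  have hww : Commute w2 w2' := by
    by_contra hc
    have := commute_left_of_odd hc2 (hw2c.symm.mul_right hw2c'.symm)
      (h.odd_of_not t2.mw mw2' hc) (he ▸ hsx.symm)
    exact q.nax (h.f1 q.ma ma1 q.mx haa1 (Ne.symm ha1a) this).1.symm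
  have hs2 : s * s = 1 := by
    rw [he]
    exact mul_self_of_commute hc2
      (mul_self_of_commute (h.mul_self w2 t2.mw) (h.mul_self w2' mw2') hww)
      (hw2c.symm.mul_right hw2c'.symm)
  have hsinv : v * (v2 * v * v2) = s := by
    rw [← inv_eq hs2, hs, mul_inv_rev, mul_inv_rev, mul_inv_rev, inv_eq t.hv2, inv_eq t2.hv2]
    group
  have hes : s = f * f2 * (w * w') := by rw [← hsinv]; exact he'
  have hff2 : Commute f f2 := ((q.symm hn).comm_conj h t2 q.mf q.cfx q.caf.symm).1
  -- the images of `a'` and `g`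
  have ha' : ∀ z ∈ D, Commute z a → Commute z a' := fun z hz => (h.line_iff q.la hz).1
  have hg' : ∀ z ∈ D, Commute z f → Commute z g := fun z hz => (h.line_iff q.lf hz).1
  have hw2a1 : Commute w2 a1 := (hl w2 t2.mw).1 t2.cwf
  have hw2'a : Commute w2' a := (hl w2' mw2').2 (conjC t.hv2 t2.cwf)
  have mw' : w' ∈ D := h.cj_mem t2.hv2 t.mw
  have hw'f : Commute w' f := (hl2 w' mw').2 (conjC t2.hv2 t.cwf)
  refine ⟨s, hs2, fun hs1 => ?_, hsd, ?_, ?_, ?_, ?_, hsx⟩
  · have hc : a * a1 = w2 * w2' := by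
      rw [← inv_eq hc2]
      exact inv_eq_of_mul_eq_one_right (he ▸ hs1)
    have hne : w2 ≠ w2' := fun h' => ha1a <| by
      rw [← h', h.mul_self w2 t2.mw] at hc
      calc a1 = a * a * a1 := by rw [h.mul_self a q.ma, one_mul]
        _ = a := by rw [mul_assoc, hc, mul_one]
    have hf1 : Commute f a1 := (hl f q.mf).1 q.caf.symm
    have hfw : Commute f w2 :=
      (h.f1 t2.mw mw2' q.mf hww hne (hc ▸ q.caf.symm.mul_right hf1)).1
    have e : f2 = d * f * d := by
      have hd : v2 = d * (a * w2) := by rw [← mul_assoc]; exact v_eq h q.md q.ma q.cda.symm t2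
      have haw : Commute (a * w2) d := q.cda.symm.mul_left t2.cwx
      have haw2 := mul_self_of_commute (h.mul_self a q.ma) (h.mul_self w2 t2.mw) t2.cwf.symm
      rw [hf2, hd]; nth_rewrite 2 [← haw.eq]
      rw [show d * (a * w2) * f * (a * w2 * d) = d * ((a * w2) * f * (a * w2)) * d by group,
        cj_fix haw2 (q.caf.mul_left hfw.symm)]
    exact h.not_comm_cj q.mf q.md (fun e' => q.ndf e'.symm) (e ▸ hff2)
  · rw [he]
    exact ((Commute.refl a).mul_left haa1.symm).mul_left (t2.cwf.mul_left hw2'a)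
  · rw [he]
    exact ((ha' a q.ma (Commute.refl a)).mul_left (ha' a1 ma1 haa1.symm)).mul_left
      ((ha' w2 t2.mw t2.cwf).mul_left (ha' w2' mw2' hw2'a))
  · rw [hes]
    exact ((Commute.refl f).mul_left hff2.symm).mul_left (t.cwf.mul_left hw'f)
  · rw [hes]
    exact ((hg' f q.mf (Commute.refl f)).mul_left (hg' f2 mf2 hff2.symm)).mul_left
      ((hg' w t.mw t.cwf).mul_left (hg' w' mw' hw'f))

/-- If `a` and `a^v` have the same commuting members, no member commutes with `d`, `a` and `x`. -/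
theorem mixed (h : OT D) (q : Quad D d a a' f g x) (t : Tri D d x f v w)
    (hl : ∀ z ∈ D, (Commute z a ↔ Commute z (v * a * v))) :
    ∀ e ∈ D, Commute e x → Commute e a → ¬ Commute e d := fun e he hex hea hed => by
  have hv2 := t.hv2
  have hv := v_eq h q.mx q.mf q.cfx t
  have hf2 := h.mul_self f q.mf
  have hw2 := h.mul_self w t.mw
  have hef : ¬ Commute e f := fun e' => q.noF e he hed e' hex
  have hxfw : Commute x (f * w) := q.cfx.symm.mul_right t.cwx.symm
  have hxv : x * v = f * w := by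
    rw [hv, show x * (x * f * w) = x * x * (f * w) by group, h.mul_self x q.mx, one_mul]
  have hfne : f ≠ w := fun e' => q.ndx <| by
    rw [hv, ← e', mul_assoc, hf2, mul_one] at t
    exact t.cvd.symm
  have hev : ¬ Commute e v := fun hc =>
    hef (h.f1 q.mf t.mw he t.cwf.symm hfne (hxv ▸ hex.mul_right hc)).1
  set e1 := v * e * v with he1
  have me1 : e1 ∈ D := h.cj_mem hv2 he
  have he1e : e1 ≠ e := cj_ne hv2 hev
  have hee1 : Commute e e1 := by
    by_contra hc
    obtain ⟨z, w', hw', -, hvz, -, -, hw'v, hcan⟩ :=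
      h.dihedral he hv2 (h.odd_of_not he me1 hc)
    have hw'x : Commute w' x := hvz ▸ t.cvx.mul_left (hcan x hex.symm t.cvx.symm).symm
    have hw'd : Commute w' d := hvz ▸ t.cvd.mul_left (hcan d hed.symm t.cvd.symm).symm
    exact q.noF w' hw' hw'd
      (h.f1 q.mf t.mw hw' t.cwf.symm hfne (hxv ▸ hw'x.mul_right hw'v)).1 hw'x
  set k := e * e1 with hk
  have hk2 : k * k = 1 := mul_self_of_commute (h.mul_self e he) (h.mul_self e1 me1) hee1
  have hkx : Commute k x := hex.mul_left (cj_fix hv2 t.cvx ▸ conjC hv2 hex)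
  have hka : Commute k a := by
    refine hea.mul_left ?_
    have := conjC hv2 ((hl e he).1 hea)
    rwa [cj_cj hv2] at this
  have hkv : Commute k v := by
    have e2 : v * k * v = k := by
      rw [hk, show v * (e * e1) * v = v * e * (e1 * v) by group,
        show v * e * (e1 * v) = v * e * (1 * e1 * v) by group, ← hv2,
        show v * e * (v * v * e1 * v) = v * e * v * (v * e1 * v) by group, ← he1, he1, cj_cj hv2,
        ← he1, hee1.eq]
    show k * v = v * k
    calc k * v = v * k * v * v := by rw [e2]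
      _ = v * k := by rw [mul_assoc, hv2, mul_one]
  have hkfw : Commute k (f * w) := hxv ▸ hkx.mul_right hkv
  set f2 := k * f * k with hf2'
  have mf2 : f2 ∈ D := h.cj_mem hk2 q.mf
  have hf2u : Commute f2 (f * w) :=
    cj_fix hk2 hkfw ▸ conjC hk2 ((Commute.refl f).mul_right t.cwf.symm)
  obtain ⟨hf2f, hf2w⟩ := h.f1 q.mf t.mw mf2 t.cwf.symm hfne hf2u
  set w' := k * w * k with hw'
  have mw' : w' ∈ D := h.cj_mem hk2 t.mw
  have e3 : f2 * w' = f * w := by
    rw [hf2', hw', show k * f * k * (k * w * k) = k * (f * (k * k) * w) * k by group, hk2, mul_one,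
      cj_fix hk2 hkfw]
  have e4 : w' = f2 * (f * w) := by
    rw [← e3, ← mul_assoc, h.mul_self f2 mf2, one_mul]
  have hw'w : Commute w' w := e4 ▸ hf2w.mul_left (t.cwf.symm.mul_left (Commute.refl w))
  have e5 : f2 * f = w' * w := by
    rw [e4, mul_assoc f2 (f * w) w, mul_assoc f w w, hw2, mul_one]
  have haf2 : Commute a f2 := by
    have := conjC hk2 q.caf
    rwa [cj_fix hk2 hka] at this
  refine q.not_aw h t (h.f1 mw' t.mw q.ma hw'w ?_ (e5 ▸ haf2.mul_right q.caf)).2
  intro e6
  rw [e6, hw2] at e5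
  have e7 : f2 = f := by
    calc f2 = f2 * f * f := by rw [mul_assoc, hf2, mul_one]
      _ = f := by rw [e5, one_mul]
  refine hef (h.f1 he me1 q.mf hee1 (Ne.symm he1e) ?_).1.symm
  show Commute f k
  by_contra hc
  exact cj_ne hk2 hc e7

/-- Some involution centralises six members forming such a path. -/
theorem exists_six (h : OT D) (q : Quad D d a a' f g x) :
    ∃ (a₀ f₀ s : G), Quad D d a₀ a' f₀ g x ∧ s * s = 1 ∧ s ≠ 1 ∧ Six d a₀ a' f₀ g x s := by
  obtain ⟨f₀, -, q1, hb⟩ := q.exists_bd h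
  obtain ⟨a₀, q3, hb2⟩ : ∃ a₀, Quad D d a₀ a' f₀ g x ∧ Bd x d a₀ := by
    by_cases hb2 : Bd x d a
    · exact ⟨a, q1, hb2⟩
    have hl := q1.la.shift h
    have hla : ∀ z ∈ D, (Commute z (a * a') ↔ Commute z a) := fun z hz =>
      (h.line_iff hl hz).trans (h.line_iff q1.la hz).symm
    refine ⟨a * a', ⟨q1.md, hl.1, q1.mf, q1.mx, (hla d q1.md).2 q1.cda,
      ((hla f₀ q1.mf).2 q1.caf.symm).symm, q1.cfx, q1.ndf,
      fun e => q1.nax ((hla x q1.mx).1 e.symm).symm, q1.ndx, hl, q1.lf, q1.noF⟩, ?_⟩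
    have hda' : Commute d a' := (h.line_iff q1.la q1.md).1 q1.cda
    have hug : Commute (d * a) a' := hda'.mul_left q1.la.2.2.1
    have := main_line h q1.mx
      (mul_self_of_commute (h.mul_self d q1.md) (h.mul_self a q1.ma) q1.cda) q1.la.2.1 hug
      (fun e => q1.nax ((h.line_iff q1.la q1.mx).2 e).symm) (not_not.1 hb2)
    unfold Bd
    rwa [show d * (a * a') = a' * (d * a) by rw [← mul_assoc, hug.eq]]
  obtain ⟨v, w, t⟩ := q3.exists_tri h hb
  rcases q3.case h t with hl | ⟨s, hs, hs1, hs6⟩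
  · have hn := q3.mixed h t hl
    obtain ⟨v2, w2, t2⟩ := (q3.symm hn).exists_tri h hb2
    rcases (q3.symm hn).case h t2 with hl2 | ⟨s, hs, hs1, h1, h2, h3, h4, h5, h6⟩
    · obtain ⟨s, hs, hs1, hs6⟩ := q3.both h t t2 hn hl hl2
      exact ⟨a₀, f₀, s, q3, hs, hs1, hs6⟩
    · exact ⟨a₀, f₀, s, q3, hs, hs1, h6, h4, h5, h2, h3, h1⟩
  · exact ⟨a₀, f₀, s, q3, hs, hs1, hs6⟩

end Quad

theorem commute_of_mk {G : Type u} [Group G] {D : Set G} (h : OT D) {N : Subgroup G} [N.Normal]
    (hN : N ≤ Subgroup.center G) {p q : G} (hp : p ∈ D) (hq : q ∈ D)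
    (hc : Commute (QuotientGroup.mk' N p) (QuotientGroup.mk' N q)) : Commute p q := by
  by_contra hne
  have hodd := h.odd_of_not hp hq hne
  set π := QuotientGroup.mk' N with hπ
  have h1 : π (p * q) * π (p * q) = 1 := by
    rw [map_mul]
    exact mul_self_of_commute (by rw [← map_mul, h.mul_self p hp, map_one])
      (by rw [← map_mul, h.mul_self q hq, map_one]) hc
  have h2 : p * q ∈ N :=
    (QuotientGroup.eq_one_iff _).1 (eq_one_of_odd (hodd.of_dvd_nat (orderOf_map_dvd π _)) h1)
  have h3 : Commute (p * q) p := (Subgroup.mem_center_iff.1 (hN h2) p).symm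
  refine hne ?_
  have := h3.eq
  rw [mul_assoc p q p] at this
  exact (mul_left_cancel this).symm

/-- A path of length three with middle members on lines has ends with a common neighbour. -/
theorem no_quad : ∀ (n : ℕ) (G : Type u) [Group G] [Finite G] (D : Set G), Nat.card G ≤ n → OT D →
    ∀ d a a' f g x : G, ¬ Quad D d a a' f g x := by
  intro n
  induction n with
  | zero =>
    intro G _ _ D hn
    exact absurd (Nat.card_pos (α := G)) (by omega)
  | succ n ih =>
    intro G _ _ D hn h d a a' f g x q0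
    obtain ⟨a, f, s, q, hs, hs1, hsd, hsa, hsa', hsf, hsg, hsx⟩ := q0.exists_six h
    set H := Subgroup.centralizer ({s} : Set G) with hH
    have hmem : ∀ y : G, Commute s y → y ∈ H := fun y hy =>
      Subgroup.mem_centralizer_singleton_iff.2 hy.symm.eq
    by_cases hT : H = ⊤
    · -- `s` is central
      set N := Subgroup.zpowers s with hN
      have hNc : N ≤ Subgroup.center G := Subgroup.zpowers_le.2 <| Subgroup.mem_center_iff.2 fun y =>
        (Subgroup.mem_centralizer_singleton_iff.1 (hT ▸ Subgroup.mem_top y : y ∈ H))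
      have : N.Normal := ⟨fun y hy z => by
        rw [(Subgroup.mem_center_iff.1 (hNc hy) z), mul_inv_cancel_right]; exact hy⟩
      set π := QuotientGroup.mk' N with hπ
      set E : Set (G ⧸ N) := π '' D \ {1} with hE
      have hlt : Nat.card (G ⧸ N) < Nat.card G := by
        rw [Subgroup.card_eq_card_quotient_mul_card_subgroup N]
        refine lt_mul_of_one_lt_right Nat.card_pos ?_
        rw [hN, Nat.card_zpowers, orderOf_eq_prime (p := 2) (by rw [pow_two, hs]) hs1]
        norm_num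
      have hEO : OT E := by
        refine ⟨?_, fun y hy => hy.2, ?_, ?_⟩
        · rintro _ ⟨⟨y, hy, rfl⟩, -⟩
          rw [← map_mul, h.mul_self y hy, map_one]
        · rintro _ ⟨⟨y, hy, rfl⟩, hy1⟩ z
          obtain ⟨z, rfl⟩ := QuotientGroup.mk'_surjective N z
          refine ⟨⟨_, h.conj y hy z, by simp [hπ]⟩, fun e => hy1 ?_⟩
          rw [Set.mem_singleton_iff] at e ⊢
          exact conj_eq_one_iff.1 e
        · rintro _ ⟨⟨y, hy, rfl⟩, -⟩ _ ⟨⟨z, hz, rfl⟩, -⟩
          rcases h.pair y hy z hz with e | e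
          · exact Or.inl (e.map π)
          · exact Or.inr (by rw [← map_mul]; exact e.of_dvd_nat (orderOf_map_dvd π _))
      have hmE : ∀ y ∈ D, ∀ z ∈ D, ¬ Commute y z → π y ∈ E := fun y hy z hz hyz =>
        ⟨⟨y, hy, rfl⟩, fun e => hyz (commute_of_mk h hNc hy hz (by
          rw [Set.mem_singleton_iff] at e
          rw [e]; exact Commute.one_left _))⟩
      have hne : ∀ {y z : G}, y ∈ D → z ∈ D → ¬ Commute y z → ¬ Commute (π y) (π z) :=
        fun hy hz hyz e => hyz (commute_of_mk h hNc hy hz e)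
      have haa'x : ¬ Commute (a * a') x := fun e => q.nax
        ((h.line_iff (q.la.other h) q.mx).2 e.symm).symm
      have hfgd : ¬ Commute (f * g) d := fun e => q.ndf
        ((h.line_iff (q.lf.other h) q.md).2 e.symm)
      refine ih (G ⧸ N) E (by omega) hEO (π d) (π a) (π a') (π f) (π g) (π x)
        ⟨hmE d q.md f q.mf q.ndf, hmE a q.ma x q.mx q.nax,
          hmE f q.mf d q.md fun e => q.ndf e.symm, hmE x q.mx a q.ma fun e => q.nax e.symm,
          q.cda.map π, q.caf.map π, q.cfx.map π, hne q.md q.mf q.ndf, hne q.ma q.mx q.nax,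
          hne q.md q.mx q.ndx, ⟨hmE a q.ma x q.mx q.nax, ?_, q.la.2.2.1.map π, ?_⟩,
          ⟨hmE f q.mf d q.md fun e => q.ndf e.symm, ?_, q.lf.2.2.1.map π, ?_⟩, ?_⟩
      · exact hmE a' q.la.2.1 x q.mx fun e => q.nax ((h.line_iff q.la q.mx).2 e.symm).symm
      · rw [← map_mul]; exact hmE _ q.la.2.2.2 x q.mx haa'x
      · exact hmE g q.lf.2.1 d q.md fun e => q.ndf ((h.line_iff q.lf q.md).2 e.symm)
      · rw [← map_mul]; exact hmE _ q.lf.2.2.2 d q.md hfgd
      · rintro _ ⟨⟨e, he, rfl⟩, -⟩ h1 h2 h3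
        exact q.noF e he (commute_of_mk h hNc he q.md h1) (commute_of_mk h hNc he q.mf h2)
          (commute_of_mk h hNc he q.mx h3)
    · -- the centralizer of `s` is proper
      set E : Set H := {y | (y : G) ∈ D} with hE
      have hlt : Nat.card H < Nat.card G :=
        lt_of_le_of_ne (Nat.card_le_card_of_injective _ H.subtype_injective)
          fun e => hT (Subgroup.eq_top_of_card_eq H e)
      have hEO : OT E := by
        refine ⟨fun y hy => Subtype.ext (h.mul_self _ hy), fun y hy e => h.ne_one _ hy (by rw [e]; rfl),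
          fun y hy z => h.conj _ hy _, fun y hy z hz => ?_⟩
        rcases h.pair _ hy _ hz with e | e
        · exact Or.inl (Subtype.ext e)
        · exact Or.inr (by rw [← orderOf_injective H.subtype H.subtype_injective]; exact e)
      refine ih H E (by omega) hEO ⟨d, hmem d hsd⟩ ⟨a, hmem a hsa⟩ ⟨a', hmem a' hsa'⟩
        ⟨f, hmem f hsf⟩ ⟨g, hmem g hsg⟩ ⟨x, hmem x hsx⟩
        ⟨q.md, q.ma, q.mf, q.mx, Subtype.ext q.cda, Subtype.ext q.caf, Subtype.ext q.cfx,
          fun e => q.ndf (e.map H.subtype), fun e => q.nax (e.map H.subtype),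
          fun e => q.ndx (e.map H.subtype),
          ⟨q.ma, q.la.2.1, Subtype.ext q.la.2.2.1, q.la.2.2.2⟩,
          ⟨q.mf, q.lf.2.1, Subtype.ext q.lf.2.2.1, q.lf.2.2.2⟩,
          fun e he h1 h2 h3 => q.noF e he (h1.map H.subtype) (h2.map H.subtype) (h3.map H.subtype)⟩

/-- A connected odd transposition class containing a line has diameter at most two. -/
theorem exists_common {G : Type u} [Group G] [Finite G] {D : Set G} (h : OT D)
    (hl : ∀ y ∈ D, ∃ y', Line D y y') {d x : G} (hd : d ∈ D) (hx : x ∈ D)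
    (hc : Relation.ReflTransGen (fun p q => p ∈ D ∧ q ∈ D ∧ Commute p q) d x) :
    ∃ e ∈ D, Commute e d ∧ Commute e x := by
  induction hc with
  | refl => exact ⟨d, hd, Commute.refl d, Commute.refl d⟩
  | @tail y z _ hyz ih =>
    obtain ⟨hy, hz, hcyz⟩ := hyz
    obtain ⟨e, he, hed, hey⟩ := ih hy
    by_cases hdy : Commute y d
    · exact ⟨y, hy, hdy, hcyz⟩
    by_cases hez : Commute e z
    · exact ⟨e, he, hed, hez⟩
    by_cases hdz : Commute d z
    · exact ⟨d, hd, Commute.refl d, hdz⟩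
    obtain ⟨e', hle⟩ := hl e he
    obtain ⟨y', hly⟩ := hl y hy
    by_contra hno
    exact no_quad (Nat.card G) G D le_rfl h d e e' y y' z
      ⟨hd, he, hy, hz, hed.symm, hey, hcyz, fun e => hdy e.symm, hez, hdz, hle, hly,
        fun t ht htd _ htz => hno ⟨t, ht, htd, htz⟩⟩

/-- A member and two commuting members of a connected class with lines have a common neighbour. -/
theorem exists_common_pair {G : Type u} [Group G] [Finite G] {D : Set G} (h : OT D)
    (hl : ∀ y ∈ D, ∃ y', Line D y y')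
    (hc : ∀ p ∈ D, ∀ q ∈ D,
      Relation.ReflTransGen (fun p q => p ∈ D ∧ q ∈ D ∧ Commute p q) p q)
    {d x f : G} (hd : d ∈ D) (hx : x ∈ D) (hf : f ∈ D) (hxf : Commute x f) :
    ∃ e ∈ D, Commute e d ∧ Commute e x ∧ Commute e f := by
  by_cases hdx : Commute d x
  · exact ⟨x, hx, hdx.symm, Commute.refl x, hxf⟩
  by_cases hdf : Commute d f
  · exact ⟨f, hf, hdf.symm, hxf.symm, Commute.refl f⟩
  obtain ⟨a, ha, had, haf⟩ := exists_common h hl hd hf (hc d hd f hf)
  by_cases hax : Commute a x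
  · exact ⟨a, ha, had, hax, haf⟩
  obtain ⟨a', hla⟩ := hl a ha
  obtain ⟨f', hlf⟩ := hl f hf
  by_contra hno
  exact no_quad (Nat.card G) G D le_rfl h d a a' f f' x
    ⟨hd, ha, hf, hx, had.symm, haf, hxf.symm, hdf, hax, hdx, hla, hlf,
      fun t ht h1 h2 h3 => hno ⟨t, ht, h1, h3, h2⟩⟩

end CfsgLib.OddTrans74
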