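import Cfsg.Prelude.Def_RootSubgroups
import Cfsg.Agent.Lib.OddTrans74.Diameter

/-!
Odd transposition sets in the sense of the list give `OT` sets, with lines when some product of two
commuting members is a member of the class.
-/

set_option autoImplicit false

namespace CfsgLib.OddTrans74

variable {G : Type*} [Group G] {D : Set G}

theorem ot_of (hD : Cfsg.IsOddTranspositionSet D) : OT D := by
  refine ⟨fun a ha => ?_, fun a ha e => ?_, hD.1.conj_mem, fun a ha b hb => ?_⟩
  · have := pow_orderOf_eq_one a
    rwa [hD.1.orderOf_eq a ha, pow_two] at this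
  · have := hD.1.orderOf_eq a ha
    rw [e, orderOf_one] at this
    exact absurd this (by norm_num)
  · rcases hD.1.pair a ha b hb with e | e | e
    · exact Or.inl e
    · exact Or.inr e
    · exact absurd e.1 (hD.2 a ha b hb)

theorem line_of (hcl : Cfsg.IsRootInvolutionClass D)
    (hDD : (D ∩ Cfsg.commutingProducts D).Nonempty) {y : G} (hy : y ∈ D) : ∃ y', Line D y y' := by
  obtain ⟨z, hz, a, ha, b, hb, hab, -, rfl⟩ := hDD
  obtain ⟨g, rfl⟩ := hcl.2.2 a ha y hy
  refine ⟨g * b * g⁻¹, hcl.1.conj_mem a ha g, hcl.1.conj_mem b hb g,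
    Commute.map (show Commute a b from hab) (MulAut.conj g).toMonoidHom, ?_⟩
  rw [show g * a * g⁻¹ * (g * b * g⁻¹) = g * (a * b) * g⁻¹ by group]
  exact hcl.1.conj_mem _ hz g

end CfsgLib.OddTrans74
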