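import Cfsg.Agent.Lib.OddTrans74.Centred
import Cfsg.Agent.Lib.Involutions.BaerSuzuki
import Cfsg.Agent.Lib.Solvable.Fitting

/-!
In a group without normal 2-subgroup and without centre, generated by a connected class of odd
transpositions with lines, the members with the same neighbours as a given one form, with the
identity, a subgroup.
-/

set_option autoImplicit false

namespace CfsgLib.OddTrans74

universe u

variable {G : Type u} [Group G] {D : Set G}

/-- The members with the same neighbours as `a`. -/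
def twins (D : Set G) (a : G) : Set G :=
  {t | t ∈ D ∧ ∀ z ∈ D, (Commute z t ↔ Commute z a)}

theorem conj_mem_twins (h : OT D) {a t : G} (ht : t ∈ twins D a) (g : G) :
    g * t * g⁻¹ ∈ twins D (g * a * g⁻¹) := by
  refine ⟨h.conj t ht.1 g, fun z hz => ?_⟩
  have e : z = g * (g⁻¹ * z * g⁻¹⁻¹) * g⁻¹ := by group
  rw [e, commute_conj_iff, commute_conj_iff]
  exact ht.2 _ (h.conj z hz g⁻¹)

theorem conj_mem_closure_twins (h : OT D) {a x : G} (hx : x ∈ Subgroup.closure (twins D a)) (g : G) :
    g * x * g⁻¹ ∈ Subgroup.closure (twins D (g * a * g⁻¹)) := by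
  have := Subgroup.mem_map_of_mem (MulAut.conj g).toMonoidHom hx
  rw [MonoidHom.map_closure] at this
  refine Subgroup.closure_mono ?_ this
  rintro _ ⟨t, ht, rfl⟩
  exact conj_mem_twins h ht g

theorem commute_closure_twins {a b x y : G} (hb : b ∈ D) (hab : Commute a b)
    (hx : x ∈ Subgroup.closure (twins D a)) (hy : y ∈ Subgroup.closure (twins D b)) :
    Commute x y := by
  have h1 : Subgroup.closure (twins D a) ≤ Subgroup.centralizer ({y} : Set G) := by
    rw [Subgroup.closure_le]
    intro t ht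
    have h2 : Subgroup.closure (twins D b) ≤ Subgroup.centralizer ({t} : Set G) := by
      rw [Subgroup.closure_le]
      intro s hs
      exact Subgroup.mem_centralizer_singleton_iff.2
        ((hs.2 t ht.1).2 ((ht.2 b hb).2 hab.symm).symm).symm.eq
    exact Subgroup.mem_centralizer_singleton_iff.2
      (Subgroup.mem_centralizer_singleton_iff.1 (h2 hy) : y * t = t * y).symm
  exact Subgroup.mem_centralizer_singleton_iff.1 (h1 hx)

/-- An involution in the group of twins of `a` whose images of members commute with them lies in a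
normal 2-subgroup. -/
theorem mem_pCore [Finite G] (h : OT D) {a x : G} (ha : a ∈ D) (hx2 : x * x = 1)
    (hx : x ∈ Subgroup.closure (twins D a)) (hA : ∀ p ∈ D, Commute p (x * p * x)) :
    x ∈ Cfsg.pCore 2 G := by
  have : Fact (Nat.Prime 2) := ⟨Nat.prime_two⟩
  by_cases hx1 : x = 1
  · rw [hx1]; exact one_mem _
  have hord : orderOf x = 2 := orderOf_eq_prime (by rw [pow_two, hx2]) hx1
  obtain ⟨N, hN, hN2, hxN⟩ := CfsgLib.Involutions.exists_normal_isPGroup_of_mem (p := 2) (x := x) (by
    intro g
    set x' := g * x * g⁻¹ with hx'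
    have hord' : orderOf x' = 2 := by rw [hx', CfsgLib.Involutions.orderOf_conj_eq, hord]
    have hx'2 : x' * x' = 1 := CfsgLib.Involutions.mul_self_eq_one hord'
    set a' := g * a * g⁻¹ with ha'
    have h1 : x' ∈ Subgroup.closure (twins D a') := conj_mem_closure_twins h hx g
    have h2 : x * x' * x ∈ Subgroup.closure (twins D (x * a' * x)) := by
      have := conj_mem_closure_twins h h1 x
      rwa [inv_eq hx2] at this
    have hc := commute_closure_twins (h.cj_mem hx2 (h.conj a ha g)) (hA a' (h.conj a ha g)) h1 h2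
    have h4 : (x * x') ^ 4 = 1 := by
      have e : (x * x') ^ 2 = x * x' * x * x' := by rw [pow_two]; group
      rw [show 4 = 2 * 2 from rfl, pow_mul, e, pow_two]
      exact mul_self_of_commute
        (by rw [show x * x' * x * (x * x' * x) = x * x' * (x * x) * x' * x by group, hx2, mul_one,
              show x * x' * x' * x = x * (x' * x') * x by group, hx'2, mul_one, hx2])
        hx'2 hc.symm
    obtain ⟨k, -, hk⟩ := (Nat.dvd_prime_pow Nat.prime_two).1
      (show orderOf (x * x') ∣ 2 ^ 2 from orderOf_dvd_of_pow_eq_one h4)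
    exact CfsgLib.Involutions.isPGroup_two_closure_pair hord hord' hk)
  exact CfsgLib.Fitting.le_pCore hN hN2 hxN

/-- Two members with the same neighbours have product a member. -/
theorem twin_mul_mem [Finite G] (hC : Cls D) (hgen : Subgroup.closure D = ⊤)
    (hcon : ∀ p ∈ D, ∀ q ∈ D,
      Relation.ReflTransGen (fun p q => p ∈ D ∧ q ∈ D ∧ Commute p q) p q)
    (hO : Cfsg.pCore 2 G = ⊥) {a a1 : G} (ha : a ∈ D) (ht : a1 ∈ twins D a) (hne : a ≠ a1) :
    a * a1 ∈ D := by
  have ha1 := ht.1
  have hsame : ∀ z ∈ D, Commute z a → Commute z a1 := fun z hz => (ht.2 z hz).2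
  have haa1 : Commute a a1 := hsame a ha (Commute.refl a)
  by_contra hnm
  set c := a * a1 with hc
  have hc2 : c * c = 1 := mul_self_of_commute (hC.ot.mul_self a ha) (hC.ot.mul_self a1 ha1) haa1
  have hcT : c ∈ Subgroup.closure (twins D a) :=
    mul_mem (Subgroup.subset_closure ⟨ha, fun _ _ => Iff.rfl⟩) (Subgroup.subset_closure ht)
  by_cases hA : ∀ p ∈ D, Commute p (c * p * c)
  · have := mem_pCore hC.ot ha hc2 hcT hA
    rw [hO, Subgroup.mem_bot] at this
    refine hne ?_
    calc a = a * (a1 * a1) := by rw [hC.ot.mul_self a1 ha1, mul_one]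
      _ = a1 := by rw [← mul_assoc, ← hc, this, one_mul]
  push Not at hA
  obtain ⟨z, hz, hb⟩ := hA
  obtain ⟨v, w, hw, hv2, hvw, hvz, -, hwc, hcan⟩ :=
    hC.ot.dihedral hz hc2 (hC.ot.odd_of_not hz (hC.ot.cj_mem hc2 hz) hb)
  obtain ⟨hwa, hwa1⟩ := hC.ot.f1 ha ha1 hw haa1 hne hwc
  have hza : ¬ Commute z a := fun e =>
    hb (by rw [cj_fix hc2 (e.mul_right (hsame z hz e)).symm])
  have hyw : ∀ y : G, Commute y z → Commute y c → Commute y w := fun y h1 h2 =>
    hvw ▸ h2.mul_right (hcan y h1 h2)
  -- the neighbours of `a` commute with `w`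
  have hsub : ∀ b ∈ D, Commute b a → Commute b w := by
    intro b hb' hba
    by_contra hbw
    have hbz : ¬ Commute b z := fun e => hbw (hyw b e (hba.mul_right (hsame b hb' hba)))
    obtain ⟨a', hl⟩ := hC.lines a ha
    obtain ⟨s, hs, hst, hb2⟩ : ∃ s, s ∈ D ∧ (∀ m ∈ D, (Commute m s ↔ Commute m a)) ∧
        ¬ Commute z (s * b * z * (s * b)) := by
      by_cases hA2 : Commute z (a * b * z * (a * b))
      · have hl2 := hl.shift hC.ot
        refine ⟨a * a', hl2.1, fun m hm => (hC.ot.line_iff hl2 hm).trans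
          (hC.ot.line_iff hl hm).symm, ?_⟩
        rw [show a * a' * b = a' * (a * b) by rw [hl.2.2.1.eq, mul_assoc]]
        exact Quad.main_line hC.ot hz (mul_self_of_commute (hC.ot.mul_self a ha)
          (hC.ot.mul_self b hb') hba.symm) hl.2.1
          (hl.2.2.1.mul_left ((hC.ot.line_iff hl hb').1 hba))
          (fun e => hza ((hC.ot.line_iff hl hz).2 e)) hA2
      · exact ⟨a, ha, fun _ _ => Iff.rfl, hA2⟩
    have hsb : Commute s b := ((hst b hb').2 hba).symm
    have hu2 := mul_self_of_commute (hC.ot.mul_self s hs) (hC.ot.mul_self b hb') hsb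
    have hws : Commute w s := (hst w hw).2 hwa
    have hsbne : s ≠ b := fun e => hbw (e ▸ hws.symm)
    obtain ⟨v2, y, hy, -, hv2y, hv2z, -, hyu, -⟩ :=
      hC.ot.dihedral hz hu2 (hC.ot.odd_of_not hz (hC.ot.cj_mem hu2 hz) hb2)
    obtain ⟨hys, hyb⟩ := hC.ot.f1 hs hb' hy hsb hsbne hyu
    have hv2e : v2 = s * b * y := by rw [← hv2y, ← mul_assoc, hu2, one_mul]
    have hya : Commute y a := (hst y hy).1 hys
    have hsa : Commute s a := (hst s hs).1 (Commute.refl s)
    have hv2c : Commute v2 c := by
      rw [hv2e]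
      exact ((hsa.mul_right (hsame s hs hsa)).mul_left (hba.mul_right (hsame b hb' hba))).mul_left
        (hya.mul_right (hsame y hy hya))
    have h1 : Commute w (b * y) := by
      have := hws.mul_right (hyw v2 hv2z hv2c).symm
      rwa [hv2e, mul_assoc s b y, ← mul_assoc s s, hC.ot.mul_self s hs, one_mul] at this
    have hyne : b ≠ y := fun e => hza <| by
      rw [hv2e, ← e, mul_assoc, hC.ot.mul_self b hb', mul_one] at hv2z
      exact (hst z hz).1 hv2z.symm
    exact hbw (hC.ot.f1 hb' hy hw hyb.symm hyne h1).1.symm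
  have hwt : w ∈ twins D a :=
    ⟨hw, fun z hz => ⟨hC.twin_of_subset ha hw hsub z hz, hsub z hz⟩⟩
  have hv : v = c * w := by rw [← hvw, ← mul_assoc, hc2, one_mul]
  have hcen : Cen D a z v :=
    ⟨ha, hz, fun e => hza e.symm, hv2,
      fun b hb' hba => hv ▸ (hba.mul_right (hsame b hb' hba)).mul_right (hsub b hb' hba), hvz.symm⟩
  have hall : ∀ p ∈ D, Commute p (v * p * v) := fun p hp => by
    by_contra hp'
    exact hcen.commute_all hC hgen hcon hp hp'
  have hvT : v ∈ Subgroup.closure (twins D a) := hv ▸ mul_mem hcT (Subgroup.subset_closure hwt)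
  have := mem_pCore hC.ot ha hv2 hvT hall
  rw [hO, Subgroup.mem_bot] at this
  rw [this, mul_one] at hvw
  exact hnm (hvw ▸ hw)

/-- The twins of `a` together with `1` form a subgroup. -/
theorem closure_twins [Finite G] (hC : Cls D) (hgen : Subgroup.closure D = ⊤)
    (hcon : ∀ p ∈ D, ∀ q ∈ D,
      Relation.ReflTransGen (fun p q => p ∈ D ∧ q ∈ D ∧ Commute p q) p q)
    (hO : Cfsg.pCore 2 G = ⊥) {a : G} (ha : a ∈ D) :
    (Subgroup.closure (twins D a) : Set G) = twins D a ∪ {1} := by
  apply le_antisymm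
  · intro x hx
    induction hx using Subgroup.closure_induction'' with
    | mem y hy => exact Or.inl hy
    | inv_mem y hy => rw [hC.ot.inv_eq hy.1]; exact Or.inl hy
    | one => exact Or.inr rfl
    | mul y z _ _ hy hz =>
      rcases hy with hy | hy
      swap
      · rw [Set.mem_singleton_iff] at hy; rw [hy, one_mul]; exact hz
      rcases hz with hz | hz
      swap
      · rw [Set.mem_singleton_iff] at hz; rw [hz, mul_one]; exact Or.inl hy
      by_cases e : y = z
      · rw [e, hC.ot.mul_self z hz.1]; exact Or.inr rfl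
      have htz : z ∈ twins D y := ⟨hz.1, fun m hm => (hz.2 m hm).trans (hy.2 m hm).symm⟩
      have hm := twin_mul_mem hC hgen hcon hO hy.1 htz e
      have hyz : Commute y z := (htz.2 y hy.1).2 (Commute.refl y)
      refine Or.inl ⟨hm, fun m hm' => ⟨fun h => ?_, fun h => ?_⟩⟩
      · exact (hy.2 m hm').1 (hC.ot.f1 hy.1 hz.1 hm' hyz e h).1
      · exact ((hy.2 m hm').2 h).mul_right ((hz.2 m hm').2 h)
  · rintro x (hx | hx)
    · exact Subgroup.subset_closure hx
    · rw [Set.mem_singleton_iff] at hx; rw [hx]; exact one_mem _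

end CfsgLib.OddTrans74
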