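import Cfsg.Agent.Lib.OddTrans74.Basic

/-!
A path `d, a, f, x` in the commuting graph of an odd transposition set, its two middle members
lying on lines, such that no member commutes with `d`, `f` and `x`: the tools for finding an
involution that centralises all six members involved (the descent step showing that no such path
exists).
-/

set_option autoImplicit false

namespace CfsgLib.OddTrans74

variable {G : Type*} [Group G] {D : Set G}

/-- A path `d, a, f, x` without shortcuts, with lines through `a` and `f`. -/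
structure Quad (D : Set G) (d a a' f g x : G) : Prop where
  md : d ∈ D
  ma : a ∈ D
  mf : f ∈ D
  mx : x ∈ D
  cda : Commute d a
  caf : Commute a f
  cfx : Commute f x
  ndf : ¬ Commute d f
  nax : ¬ Commute a x
  ndx : ¬ Commute d x
  la : Line D a a'
  lf : Line D f g
  noF : ∀ e ∈ D, Commute e d → Commute e f → ¬ Commute e x

/-- `s` centralises the six members. -/
def Six (d a a' f g x s : G) : Prop :=
  Commute s d ∧ Commute s a ∧ Commute s a' ∧ Commute s f ∧ Commute s g ∧ Commute s x

/-- The non-degenerate case of the pair `x, f` for the member `d`. -/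
def Bd (d x f : G) : Prop := ¬ Commute d (x * f * d * (x * f))

/-- The involution `v = x f w` centralising `d`. -/
structure Tri (D : Set G) (d x f v w : G) : Prop where
  mw : w ∈ D
  hv2 : v * v = 1
  huv : x * f * v = w
  cvd : Commute v d
  cvx : Commute v x
  cvf : Commute v f
  cwx : Commute w x
  cwf : Commute w f
  canon : ∀ y : G, Commute y d → Commute y (x * f) → Commute y v

theorem mul_self_of_commute {p q : G} (hp : p * p = 1) (hq : q * q = 1) (h : Commute p q) :
    p * q * (p * q) = 1 := by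
  rw [h.symm.mul_mul_mul_comm, hp, hq, one_mul]

theorem commute_of_mul_self {p q : G} (hp : p * p = 1) (hq : q * q = 1)
    (h : p * q * (p * q) = 1) : Commute p q := by
  have e := inv_eq_of_mul_eq_one_right h
  rw [mul_inv_rev, inv_eq hp, inv_eq hq] at e
  exact e.symm

/-- If the involution `c` commutes with `t` of odd order and `y` commutes with `c * t`, then `y`
commutes with `c`. -/
theorem commute_left_of_odd {c t y : G} (hc : c * c = 1) (hct : Commute c t)
    (ht : Odd (orderOf t)) (h : Commute y (c * t)) : Commute y c := by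
  obtain ⟨k, hk⟩ := ht
  have e : (c * t) ^ (2 * k + 1) = c := by
    rw [hct.mul_pow, ← hk, pow_orderOf_eq_one, hk, mul_one, pow_succ, pow_mul, pow_two, hc,
      one_pow, one_mul]
  exact e ▸ h.pow_right _

theorem Line.cj (h : OT D) {t u v : G} (ht : t * t = 1) (hl : Line D u v) :
    Line D (t * u * t) (t * v * t) := by
  refine ⟨h.cj_mem ht hl.1, h.cj_mem ht hl.2.1, conjC ht hl.2.2.1, ?_⟩
  rw [show t * u * t * (t * v * t) = t * (u * (t * t) * v) * t by group, ht, mul_one]
  exact h.cj_mem ht hl.2.2.2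

theorem Line.other (h : OT D) {u v : G} (hl : Line D u v) : Line D u (u * v) :=
  ⟨hl.1, hl.2.2.2, (Commute.refl u).mul_right hl.2.2.1, by
    rw [← mul_assoc, h.mul_self u hl.1, one_mul]; exact hl.2.1⟩

namespace Quad

variable {d a a' f g x : G}

theorem symm (q : Quad D d a a' f g x)
    (hn : ∀ e ∈ D, Commute e x → Commute e a → ¬ Commute e d) : Quad D x f g a a' d :=
  ⟨q.mx, q.mf, q.ma, q.md, q.cfx.symm, q.caf.symm, q.cda.symm, fun e => q.nax e.symm,
    fun e => q.ndf e.symm, fun e => q.ndx e.symm, q.lf, q.la, hn⟩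

/-- No member is in the degenerate case for two members of a line. -/
theorem main_line (h : OT D) {d u g : G} (hd : d ∈ D) (hu : u * u = 1) (hg : g ∈ D)
    (hug : Commute u g) (hdg : ¬ Commute d g) (h1 : Commute d (u * d * u)) :
    ¬ Commute d (g * u * d * (g * u)) := fun h2 => by
  have hd2 := h.mul_self d hd
  have hg2 := h.mul_self g hg
  have h3 : Commute (u * d * u) (g * d * g) := by
    have := conjC hg2 h2
    rw [show g * (g * u * d * (g * u)) * g = g * g * (u * d * (g * u * g)) by group,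
      hg2, one_mul, ← hug.eq, show u * d * (u * g * g) = u * d * u * (g * g) by group,
      hg2, mul_one] at this
    exact this.symm
  have h4 : Commute (u * d * u) (d * g) := by
    refine commute_of_sq (h.odd_of_not hd hg hdg) ?_
    rw [show d * g * (d * g) = d * (g * d * g) by group]
    exact h1.symm.mul_right h3
  have h5 : Commute (u * d * u) g := by
    have := h1.symm.mul_right h4
    rwa [← mul_assoc, hd2, one_mul] at this
  have h6 := conjC hu h5
  rw [cj_cj hu, cj_fix hu hug] at h6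
  exact hdg h6

theorem exists_bd (h : OT D) (q : Quad D d a a' f g x) :
    ∃ f', (f' = f ∨ f' = f * g) ∧ Quad D d a a' f' g x ∧ Bd d x f' := by
  by_cases hb : Bd d x f
  · exact ⟨f, Or.inl rfl, q, hb⟩
  refine ⟨f * g, Or.inr rfl, ?_, ?_⟩
  · have hl := q.lf.shift h
    have hlg : ∀ z ∈ D, (Commute z (f * g) ↔ Commute z f) := fun z hz =>
      (h.line_iff hl hz).trans (h.line_iff q.lf hz).symm
    exact ⟨q.md, q.ma, hl.1, q.mx, q.cda, (hlg a q.ma).2 q.caf,
      ((hlg x q.mx).2 q.cfx.symm).symm, fun e => q.ndf ((hlg d q.md).1 e), q.nax, q.ndx, q.la, hl,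
      fun e he hed hef => q.noF e he hed ((hlg e he).1 hef)⟩
  · have hxg : Commute x g := (h.line_iff q.lf q.mx).1 q.cfx.symm
    have hug : Commute (x * f) g := hxg.mul_left q.lf.2.2.1
    have hu : x * f * (x * f) = 1 :=
      mul_self_of_commute (h.mul_self x q.mx) (h.mul_self f q.mf) q.cfx.symm
    have := main_line h q.md hu q.lf.2.1 hug (fun e => q.ndf ((h.line_iff q.lf q.md).2 e))
      (not_not.1 hb)
    unfold Bd
    rwa [show x * (f * g) = g * (x * f) by rw [← mul_assoc, hug.eq]]

theorem exists_tri (h : OT D) (q : Quad D d a a' f g x) (hb : Bd d x f) :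
    ∃ v w, Tri D d x f v w := by
  have hne : x ≠ f := fun e => q.nax (e ▸ q.caf)
  have hu : x * f * (x * f) = 1 :=
    mul_self_of_commute (h.mul_self x q.mx) (h.mul_self f q.mf) q.cfx.symm
  obtain ⟨v, w, hw, hv2, huv, hvd, hvu, hwu, hcan⟩ :=
    h.dihedral q.md hu (h.odd_of_not q.md (h.cj_mem hu q.md) hb)
  obtain ⟨hwx, hwf⟩ := h.f1 q.mx q.mf hw q.cfx.symm hne hwu
  have hv : x * f * w = v := by rw [← huv, ← mul_assoc, hu, one_mul]
  refine ⟨v, w, hw, hv2, huv, hvd, ?_, ?_, hwx, hwf, hcan⟩
  · rw [← hv]; exact ((Commute.refl x).mul_left q.cfx).mul_left hwx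
  · rw [← hv]; exact (q.cfx.symm.mul_left (Commute.refl f)).mul_left hwf

variable {v w : G}

theorem v_eq (h : OT D) (hx : x ∈ D) (hf : f ∈ D) (hc : Commute f x) (t : Tri D d x f v w) :
    v = x * f * w := by
  rw [← t.huv, ← mul_assoc,
    mul_self_of_commute (h.mul_self x hx) (h.mul_self f hf) hc.symm, one_mul]

theorem step1 (h : OT D) (q : Quad D d a a' f g x) (t : Tri D d x f v w) {y : G} (hy : y ∈ D)
    (hyd : Commute y d) (hyf : Commute y f) : ¬ Commute y v := fun hyv => by
  have hf2 := h.mul_self f q.mf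
  have hne : x ≠ w := fun e => q.ndf <| by
    have hv : v = f := by
      rw [v_eq h q.mx q.mf q.cfx t, ← e, q.cfx.symm.eq, mul_assoc, h.mul_self x q.mx, mul_one]
    rw [hv] at t
    exact t.cvd.symm
  refine q.noF y hy hyd hyf (h.f1 q.mx t.mw hy t.cwx.symm hne ?_).1
  have e : f * v = x * w := by
    rw [v_eq h q.mx q.mf q.cfx t, show f * (x * f * w) = f * x * f * w by group, q.cfx.eq,
      show x * f * f * w = x * (f * f) * w by group, hf2, mul_one]
  exact e ▸ hyf.mul_right hyv

theorem comm_conj (h : OT D) (q : Quad D d a a' f g x) (t : Tri D d x f v w) {y : G} (hy : y ∈ D)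
    (hyd : Commute y d) (hyf : Commute y f) : Commute y (v * y * v) ∧ v * y * v ≠ y := by
  refine ⟨?_, cj_ne t.hv2 (q.step1 h t hy hyd hyf)⟩
  by_contra hc
  obtain ⟨z, w', hw', -, hvz, -, -, hw'v, hcan⟩ :=
    h.dihedral hy t.hv2 (h.odd_of_not hy (h.cj_mem t.hv2 hy) hc)
  refine q.step1 h t hw' ?_ ?_ hw'v
  · exact hvz ▸ t.cvd.mul_left (hcan d hyd.symm t.cvd.symm).symm
  · exact hvz ▸ t.cvf.mul_left (hcan f hyf.symm t.cvf.symm).symm

theorem not_aw (h : OT D) (q : Quad D d a a' f g x) (t : Tri D d x f v w) : ¬ Commute a w :=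
  fun haw => by
  have hu : Commute (f * w) a := q.caf.symm.mul_left haw.symm
  have e : v * a * v = x * a * x := by
    have hv : v = x * (f * w) := by rw [← mul_assoc, v_eq h q.mx q.mf q.cfx t]
    have hxfw : Commute x (f * w) := q.cfx.symm.mul_right t.cwx.symm
    have hfw2 := mul_self_of_commute (h.mul_self f q.mf) (h.mul_self w t.mw) t.cwf.symm
    rw [hv]; nth_rewrite 2 [hxfw.eq]
    rw [show x * (f * w) * a * (f * w * x) = x * ((f * w) * a * (f * w)) * x by group,
      cj_fix hfw2 hu]
  have := (q.comm_conj h t q.ma q.cda.symm q.caf).1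
  rw [e] at this
  exact h.not_comm_cj q.ma q.mx q.nax this

/-- Either `a` and its image under `v` have the same commuting members or some involution
centralises the six members. -/
theorem case (h : OT D) (q : Quad D d a a' f g x) (t : Tri D d x f v w) :
    (∀ z ∈ D, (Commute z a ↔ Commute z (v * a * v))) ∨
      ∃ s, s * s = 1 ∧ s ≠ 1 ∧ Six d a a' f g x s := by
  have hv2 := t.hv2
  set a1 := v * a * v with ha1
  have ma1 : a1 ∈ D := h.cj_mem hv2 q.ma
  obtain ⟨haa1, ha1a⟩ := q.comm_conj h t q.ma q.cda.symm q.caf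
  have hd1 : Commute a1 d := cj_fix hv2 t.cvd ▸ conjC hv2 q.cda.symm
  have hf1 : Commute a1 f := cj_fix hv2 t.cvf ▸ conjC hv2 q.caf
  -- choose the line through `a`
  obtain ⟨b, hl, hb⟩ : ∃ b, Line D a b ∧ ¬ Commute x (b * a1 * x * (b * a1)) := by
    by_cases hA : Commute x (a' * a1 * x * (a' * a1))
    · have ha'a1 : Commute a' a1 := ((h.line_iff q.la ma1).1 haa1.symm).symm
      refine ⟨a * a', q.la.other h, ?_⟩
      rw [mul_assoc a a' a1]
      exact main_line h q.mx (mul_self_of_commute (h.mul_self a' q.la.2.1) (h.mul_self a1 ma1)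
        ha'a1) q.ma (q.la.2.2.1.symm.mul_left haa1.symm) (fun e => q.nax e.symm) hA
    · exact ⟨a', q.la, hA⟩
  have mb := hl.2.1
  have hL : ∀ z ∈ D, (Commute z a ↔ Commute z b) := fun z hz => h.line_iff hl hz
  have hba1 : Commute b a1 := ((hL a1 ma1).1 haa1.symm).symm
  by_cases hm : b * a1 ∈ D
  · exact Or.inl fun z hz => (hL z hz).trans (h.line_iff ⟨mb, ma1, hba1, hm⟩ hz)
  refine Or.inr ?_
  have hb2 := h.mul_self b mb
  have ha12 := h.mul_self a1 ma1
  set u := b * a1 with hu
  have hu2 : u * u = 1 := mul_self_of_commute hb2 ha12 hba1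
  have hbne : b ≠ a1 := fun e => hb (by
    have hu1 : u = 1 := by rw [hu, e, ha12]
    rw [hu1, one_mul, mul_one])
  obtain ⟨v5, w5, mw5, hv52, huv5, hv5x, hv5u, hw5u, hcan⟩ :=
    h.dihedral q.mx hu2 (h.odd_of_not q.mx (h.cj_mem hu2 q.mx) hb)
  have hv5 : v5 = u * w5 := by rw [← huv5, ← mul_assoc, hu2, one_mul]
  obtain ⟨hw5b, hw5a1⟩ := h.f1 mb ma1 mw5 hba1 hbne hw5u
  have hw5a : Commute w5 a := (hL w5 mw5).2 hw5b
  have hfb : Commute f b := (hL f q.mf).1 q.caf.symm
  have hfv5 : Commute f v5 := hcan f q.cfx (hfb.mul_right hf1.symm)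
  have hfw5 : Commute f w5 := huv5 ▸ (hfb.mul_right hf1.symm).mul_right hfv5
  -- the images under `v`
  set b1 := v * b * v with hb1
  have mb1 : b1 ∈ D := h.cj_mem hv2 mb
  have hdb : Commute d b := (hL d q.md).1 q.cda
  obtain ⟨hbb1, hb1b⟩ := q.comm_conj h t mb hdb.symm hfb.symm
  have hL1 : ∀ z ∈ D, (Commute z a1 ↔ Commute z b1) :=
    fun z hz => h.line_iff (hl.cj h hv2) hz
  have hw5b1 : Commute w5 b1 := (hL1 w5 mw5).1 hw5a1
  have hab1 : Commute a b1 := (hL1 a q.ma).1 haa1
  have ha1b1 : Commute a1 b1 := conjC hv2 hl.2.2.1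
  set w5' := v * w5 * v with hw5'
  have mw5' : w5' ∈ D := h.cj_mem hv2 mw5
  have va1 : v * a1 * v = a := cj_cj hv2 a
  have vb1 : v * b1 * v = b := cj_cj hv2 b
  have h'a : Commute w5' a := va1 ▸ conjC hv2 hw5a1
  have h'a1 : Commute w5' a1 := conjC hv2 hw5a
  have h'b1 : Commute w5' b1 := conjC hv2 hw5b
  have h'b : Commute w5' b := vb1 ▸ conjC hv2 hw5b1
  -- `e = a b` and `e1 = a1 b1`
  set e := a * b with he
  have me : e ∈ D := hl.2.2.2
  set e1 := a1 * b1 with he1
  have he1' : v * e * v = e1 := by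
    rw [he1, ha1, hb1, show v * a * v * (v * b * v) = v * (a * (v * v) * b) * v by group, hv2,
      mul_one]
  have me1 : e1 ∈ D := he1' ▸ h.cj_mem hv2 me
  have hee1 : Commute e e1 := (haa1.mul_left hba1).mul_right (hab1.mul_left hbb1)
  have hne1 : e ≠ e1 := fun h' => by
    refine q.step1 h t me (q.cda.mul_right hdb).symm (q.caf.mul_left hfb.symm) ?_
    by_contra hc
    exact cj_ne hv2 hc (he1'.trans h'.symm)
  have hw5c : Commute w5 (e * e1) := (hw5a.mul_right hw5b).mul_right (hw5a1.mul_right hw5b1)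
  have h'c : Commute w5' (e * e1) := (h'a.mul_right h'b).mul_right (h'a1.mul_right h'b1)
  set s := v5 * (v * v5 * v) with hs
  have hsC : s = e * e1 * (w5 * w5') := by
    have e2 : v * v5 * v = b1 * a * w5' := by
      rw [hv5, hu, hw5', hb1, show v * (b * a1 * w5) * v = v * b * (a1 * (w5 * v)) by group,
        show v * b * v * a * (v * w5 * v) = v * b * (v * a * v) * w5 * v by group, ← ha1]
      group
    have e3 : b * a1 * (b1 * a) = e * e1 := by
      rw [he, he1, ← mul_assoc, ((hl.2.2.1.mul_right haa1).mul_right hab1).symm.eq]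
      simp only [ha1, mul_assoc]
    rw [hs, e2, hv5, hu, ← e3,
      show b * a1 * w5 * (b1 * a * w5') = b * a1 * (w5 * (b1 * a)) * w5' by group,
      (hw5b1.mul_right hw5a).eq]
    group
  have hxs : Commute x s := by
    refine hv5x.symm.mul_right ?_
    rw [← cj_fix hv2 t.cvx]
    exact conjC hv2 hv5x.symm
  have hc2 : e * e1 * (e * e1) = 1 :=
    mul_self_of_commute (h.mul_self e me) (h.mul_self e1 me1) hee1
  have hw55 : Commute w5 w5' := by
    by_contra hc
    have hxc := commute_left_of_odd hc2 (hw5c.symm.mul_right h'c.symm)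
      (h.odd_of_not mw5 mw5' hc) (hsC ▸ hxs)
    exact q.nax ((h.line_iff (hl.other h) q.mx).2 (h.f1 me me1 q.mx hee1 hne1 hxc).1).symm
  have hs2 : s * s = 1 := by
    rw [hsC]
    exact mul_self_of_commute hc2
      (mul_self_of_commute (h.mul_self w5 mw5) (h.mul_self w5' mw5') hw55)
      (hw5c.symm.mul_right h'c.symm)
  set p := v5 * w * v5 with hp
  have mp : p ∈ D := h.cj_mem hv52 t.mw
  have hw2 := h.mul_self w t.mw
  have hspw : s = p * w := by
    have hxf : Commute v5 (x * f) := hv5x.mul_right hfv5.symm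
    have hwu : Commute w (x * f) := t.cwx.mul_right t.cwf
    have hxf2 := mul_self_of_commute (h.mul_self x q.mx) (h.mul_self f q.mf) q.cfx.symm
    have hvw : v = w * (x * f) := by rw [hwu.eq]; exact v_eq h q.mx q.mf q.cfx t
    have : v * v5 * v = w * v5 * w := by
      nth_rewrite 2 [v_eq h q.mx q.mf q.cfx t]
      rw [hvw, show w * (x * f) * v5 * (x * f * w) = w * ((x * f) * v5 * (x * f)) * w by group,
        cj_fix hxf2 hxf.symm]
    rw [hs, this, hp]
    group
  have hpw : Commute p w := commute_of_mul_self (h.mul_self p mp) hw2 (hspw ▸ hs2)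
  have hpe : p = w := by
    by_contra hc
    refine q.not_aw h t (h.f1 mp t.mw q.ma hpw hc (hspw ▸ ?_)).2
    rw [hsC]
    exact ((((Commute.refl a).mul_right hl.2.2.1)).mul_right (haa1.mul_right hab1)).mul_right
      (hw5a.symm.mul_right h'a.symm)
  have hs1 : s = 1 := by rw [hspw, hpe, hw2]
  have hd5 : Commute d w5 := by
    have hw2' := mul_self_of_commute (h.mul_self w5 mw5) (h.mul_self w5' mw5') hw55
    have hc : e * e1 = w5 * w5' := by
      rw [← inv_eq hc2]
      exact inv_eq_of_mul_eq_one_right (hsC ▸ hs1)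
    have hne : w5 ≠ w5' := fun h' => hne1 <| by
      rw [← h', h.mul_self w5 mw5] at hc
      calc e = e * e1 * e1 := by rw [mul_assoc, h.mul_self e1 me1, mul_one]
        _ = e1 := by rw [hc, one_mul]
    refine (h.f1 mw5 mw5' q.md hw55 hne (hc ▸ ?_)).1
    exact (q.cda.mul_right hdb).mul_right (hd1.symm.mul_right ((hL1 d q.md).1 hd1.symm))
  refine ⟨v5, hv52, fun e' => hm ?_, ?_, ?_, ?_, hfv5.symm, ?_, hv5x⟩
  · rw [e', mul_one] at huv5
    exact huv5 ▸ mw5
  · rw [hv5]; exact (hdb.mul_right hd1.symm |>.mul_right hd5).symm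
  · rw [hv5]; exact (hl.2.2.1.mul_right haa1 |>.mul_right hw5a.symm).symm
  · have hz : ∀ z ∈ D, Commute z a → Commute z a' := fun z hz => (h.line_iff q.la hz).1
    rw [hv5]
    exact ((hz b mb hl.2.2.1.symm).mul_left (hz a1 ma1 haa1.symm)).mul_left (hz w5 mw5 hw5a)
  · have hz : ∀ z ∈ D, Commute z f → Commute z g := fun z hz => (h.line_iff q.lf hz).1
    rw [hv5]
    exact ((hz b mb hfb.symm).mul_left (hz a1 ma1 hf1)).mul_left (hz w5 mw5 hfw5.symm)

end Quad

end CfsgLib.OddTrans74
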